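import Groth.Agent.EtInvLib.Glue
import Groth.Prelude.Def_EtBase

/-!
# Base change along universal homeomorphisms of small étale sites
-/

set_option autoImplicit false
set_option linter.style.haveILetI false
universe u

open CategoryTheory CategoryTheory.Limits AlgebraicGeometry

namespace EtInvLib

set_option maxHeartbeats 400000

variable {S S₀ : Scheme.{u}} (i : S₀ ⟶ S) [UniversallyClosed i] [UniversallyInjective i] [Surjective i]

theorem bc_faithful : (EtCoh.bc i).Faithful := by
  refine ⟨fun {X Y} a b h => ?_⟩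
  haveI : Etale Y.hom := Y.prop
  refine MorphismProperty.Over.Hom.ext (hom_eq Y.hom (pullback.fst X.hom i) ?_ ?_)
  · exact (MorphismProperty.Over.w a).trans (MorphismProperty.Over.w b).symm
  · have := congrArg (fun z => z.left ≫ pullback.fst Y.hom i) h
    simp only [EtCoh.bc] at this
    exact (pullback.lift_fst _ _ _).symm.trans (this.trans (pullback.lift_fst _ _ _))

theorem bc_full : (EtCoh.bc i).Full := by
  refine ⟨fun {X Y} ψ => ?_⟩
  haveI : Etale Y.hom := Y.prop
  haveI : UniversallyInjective (pullback.fst X.hom i) :=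
    MorphismProperty.pullback_fst (P := @UniversallyInjective) X.hom i ‹_›
  have hw : ψ.left ≫ pullback.snd Y.hom i = pullback.snd X.hom i := MorphismProperty.Over.w ψ
  obtain ⟨b, ⟨hb, hbf⟩, -⟩ := existsUnique_hom Y.hom X.hom (pullback.fst X.hom i) (ψ.left ≫ pullback.fst Y.hom i) (by
    exact (Category.assoc _ _ _).trans ((congrArg (ψ.left ≫ ·) (pullback.condition (f := Y.hom) (g := i))).trans
      ((Category.assoc _ _ _).symm.trans ((congrArg (· ≫ i) hw).trans (pullback.condition (f := X.hom) (g := i)).symm))))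
  refine ⟨MorphismProperty.Over.homMk b hbf, MorphismProperty.Over.Hom.ext (pullback.hom_ext ?_ ?_)⟩
  · exact (pullback.lift_fst _ _ _).trans hb
  · exact (pullback.lift_snd _ _ _).trans hw.symm

theorem bc_isEquivalence (hloc : ∀ (X₀ : Scheme.{u}) (x₀ : X₀ ⟶ S₀), Etale x₀ → ∀ x : X₀,
    ∃ V : X₀.Opens, x ∈ V ∧ Nonempty (LiftData i x₀ V)) : (EtCoh.bc i).IsEquivalence := by
  haveI := bc_faithful i
  haveI := bc_full i
  haveI : (EtCoh.bc i).EssSurj := ⟨fun T => by
    haveI : Etale T.hom := T.prop
    obtain ⟨X, p, Φ, hp, hΦ⟩ := exists_lift_of_local (hloc T.left T.hom ‹_›)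
    exact ⟨Scheme.Etale.mk p, ⟨(MorphismProperty.Over.isoMk hΦ.isoPullback (hΦ.isoPullback_hom_snd)).symm⟩⟩⟩
  exact { }

end EtInvLib
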