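import Groth.Agent.EtInvLib.Local
import Groth.Prelude.Def_FEt
import Mathlib.AlgebraicGeometry.Morphisms.Separated
import Mathlib.AlgebraicGeometry.ZariskisMainTheorem

/-!
# Finite étale covers along universal homeomorphisms
-/

set_option autoImplicit false
set_option linter.style.haveILetI false
universe u

open CategoryTheory CategoryTheory.Limits AlgebraicGeometry

namespace EtInvLib

set_option maxHeartbeats 400000

theorem map_fst_universallyClosed {A B C S : Scheme.{u}} (f : A ⟶ B) [UniversallyClosed f] (g : B ⟶ S) (h : C ⟶ S) :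
    UniversallyClosed (pullback.map (f ≫ g) h g h f (𝟙 C) (𝟙 S) (by simp) (by simp)) := by
  refine MorphismProperty.of_isPullback (P := @UniversallyClosed)
    (IsPullback.of_right (h₁₂ := pullback.snd g h) (v₁₁ := pullback.fst (f ≫ g) h) (v₁₂ := pullback.fst g h)
      (h₂₁ := f) ?_ (pullback.lift_fst _ _ _) (IsPullback.of_hasPullback g h).flip).flip ‹_›
  rw [pullback.lift_snd, Category.comp_id]
  exact (IsPullback.of_hasPullback (f ≫ g) h).flip

theorem map_snd_universallyClosed {A B C S : Scheme.{u}} (f : A ⟶ B) [UniversallyClosed f] (g : B ⟶ S) (h : C ⟶ S) :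
    UniversallyClosed (pullback.map h (f ≫ g) h g (𝟙 C) f (𝟙 S) (by simp) (by simp)) := by
  refine MorphismProperty.of_isPullback (P := @UniversallyClosed)
    (IsPullback.of_right (h₁₂ := pullback.fst h g) (v₁₁ := pullback.snd h (f ≫ g)) (v₁₂ := pullback.snd h g)
      (h₂₁ := f) ?_ (pullback.lift_snd _ _ _) (IsPullback.of_hasPullback h g)).flip ‹_›
  rw [pullback.lift_fst, Category.comp_id]
  exact IsPullback.of_hasPullback h (f ≫ g)

theorem isSeparated_of_comp {T W S : Scheme.{u}} (Φ : T ⟶ W) [UniversallyClosed Φ] [Surjective Φ] (p : W ⟶ S)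
    [IsSeparated (Φ ≫ p)] : IsSeparated p := by
  let m₁ := pullback.map (Φ ≫ p) (Φ ≫ p) p (Φ ≫ p) Φ (𝟙 T) (𝟙 S) (by simp) (by simp)
  let m₂ := pullback.map p (Φ ≫ p) p p (𝟙 W) Φ (𝟙 S) (by simp) (by simp)
  haveI : UniversallyClosed m₁ := map_fst_universallyClosed Φ p (Φ ≫ p)
  haveI : UniversallyClosed m₂ := map_snd_universallyClosed Φ p p
  have h : Φ ≫ pullback.diagonal p = pullback.diagonal (Φ ≫ p) ≫ m₁ ≫ m₂ := by
    apply pullback.hom_ext
    · simp only [Category.assoc, pullback.diagonal_fst, m₁, m₂]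
      erw [pullback.lift_fst, Category.comp_id, pullback.lift_fst, pullback.diagonal_fst_assoc]
    · simp only [Category.assoc, pullback.diagonal_snd, m₁, m₂]
      erw [pullback.lift_snd, pullback.lift_snd_assoc, Category.comp_id, Category.comp_id, pullback.diagonal_snd_assoc]
  haveI : UniversallyClosed (pullback.diagonal p) := by
    haveI : UniversallyClosed (Φ ≫ pullback.diagonal p) := by rw [h]; infer_instance
    exact UniversallyClosed.of_comp_surjective Φ _
  exact ⟨IsClosedImmersion.of_isPreimmersion _ (Scheme.Hom.isClosedMap _).isClosed_range⟩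

variable {S S₀ : Scheme.{u}} (i : S₀ ⟶ S) [UniversallyClosed i] [UniversallyInjective i] [Surjective i]

theorem isFinite_of_lift {T W : Scheme.{u}} (t : T ⟶ S₀) (p : W ⟶ S) (Φ : T ⟶ W) [IsFinite t] [Etale p]
    [IsIntegralHom i] (hΦ : IsPullback Φ t p i) : IsFinite p := by
  haveI : UniversallyClosed Φ := MorphismProperty.of_isPullback (P := @UniversallyClosed) hΦ.flip ‹_›
  haveI : Surjective Φ := MorphismProperty.of_isPullback (P := @Surjective) hΦ.flip ‹_›
  haveI : UniversallyClosed p := by
    haveI : UniversallyClosed (Φ ≫ p) := by rw [hΦ.w]; infer_instance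
    exact UniversallyClosed.of_comp_surjective Φ _
  haveI : IsSeparated p := by
    haveI : IsSeparated (Φ ≫ p) := by rw [hΦ.w]; infer_instance
    exact isSeparated_of_comp Φ p
  haveI : IsProper p := { }
  haveI : LocallyQuasiFinite p := LocallyQuasiFinite.of_finite_preimage_singleton p fun s => by
    obtain ⟨s₀, rfl⟩ := i.surjective s
    refine ((t.finite_preimage_singleton s₀).image Φ).subset fun w hw => ?_
    obtain ⟨z, rfl⟩ := Φ.surjective w
    refine ⟨z, i.injective ?_, rfl⟩
    rw [← Scheme.Hom.comp_apply, ← hΦ.w, Scheme.Hom.comp_apply]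
    exact hw
  exact (IsFinite.iff_isProper_and_locallyQuasiFinite p).mpr ⟨inferInstance, inferInstance⟩

theorem restrict_faithful : (FEt.restrict i).Faithful := by
  refine ⟨fun {X Y} a b h => ?_⟩
  haveI : Etale Y.hom := Y.prop.2
  refine MorphismProperty.Over.Hom.ext (hom_eq Y.hom (pullback.fst X.hom i) ?_ ?_)
  · exact (MorphismProperty.Over.w a).trans (MorphismProperty.Over.w b).symm
  · have := congrArg (fun z => z.left ≫ pullback.fst Y.hom i) h
    simp only [FEt.restrict] at this
    exact (pullback.lift_fst _ _ _).symm.trans (this.trans (pullback.lift_fst _ _ _))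

theorem restrict_full : (FEt.restrict i).Full := by
  refine ⟨fun {X Y} ψ => ?_⟩
  haveI : Etale Y.hom := Y.prop.2
  haveI : UniversallyInjective (pullback.fst X.hom i) :=
    MorphismProperty.pullback_fst (P := @UniversallyInjective) X.hom i ‹_›
  have hw : ψ.left ≫ pullback.snd Y.hom i = pullback.snd X.hom i := MorphismProperty.Over.w ψ
  obtain ⟨b, ⟨hb, hbf⟩, -⟩ := existsUnique_hom Y.hom X.hom (pullback.fst X.hom i) (ψ.left ≫ pullback.fst Y.hom i) (by
    exact (Category.assoc _ _ _).trans ((congrArg (ψ.left ≫ ·) (pullback.condition (f := Y.hom) (g := i))).trans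
      ((Category.assoc _ _ _).symm.trans ((congrArg (· ≫ i) hw).trans (pullback.condition (f := X.hom) (g := i)).symm))))
  refine ⟨MorphismProperty.Over.homMk b hbf, MorphismProperty.Over.Hom.ext (pullback.hom_ext ?_ ?_)⟩
  · exact (pullback.lift_fst _ _ _).trans hb
  · exact (pullback.lift_snd _ _ _).trans hw.symm

theorem restrict_isEquivalence [IsIntegralHom i] (hloc : ∀ (X₀ : Scheme.{u}) (x₀ : X₀ ⟶ S₀), Etale x₀ → ∀ x : X₀,
    ∃ V : X₀.Opens, x ∈ V ∧ Nonempty (LiftData i x₀ V)) : (FEt.restrict i).IsEquivalence := by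
  haveI := restrict_faithful i
  haveI := restrict_full i
  haveI : (FEt.restrict i).EssSurj := ⟨fun T => by
    haveI : Etale T.hom := T.prop.2
    haveI : IsFinite T.hom := T.prop.1
    obtain ⟨X, p, Φ, hp, hΦ⟩ := exists_lift_of_local (hloc T.left T.hom ‹_›)
    haveI : IsFinite p := isFinite_of_lift i T.hom p Φ hΦ
    exact ⟨MorphismProperty.Over.mk ⊤ p ⟨inferInstance, inferInstance⟩,
      ⟨(MorphismProperty.Over.isoMk hΦ.isoPullback hΦ.isoPullback_hom_snd).symm⟩⟩⟩
  exact { }

end EtInvLib
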