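import Groth.Agent.EtInvLib.Sections
import Mathlib.AlgebraicGeometry.Gluing
import Mathlib.AlgebraicGeometry.Morphisms.OpenImmersion

/-!
# Lifting étale schemes along universal homeomorphisms by gluing local lifts
-/

set_option autoImplicit false
set_option linter.style.haveILetI false
universe u

open CategoryTheory CategoryTheory.Limits AlgebraicGeometry

namespace EtInvLib

set_option maxHeartbeats 400000

variable {S S₀ X₀ : Scheme.{u}} (i : S₀ ⟶ S) (x₀ : X₀ ⟶ S₀)

/-- A lift of an open piece of an étale scheme. -/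
structure LiftData (V : X₀.Opens) where
  W : Scheme.{u}
  p : W ⟶ S
  etale : Etale p
  c : (V : Scheme.{u}) ⟶ W
  isPullback : IsPullback c (V.ι ≫ x₀) p i

attribute [instance] LiftData.etale

variable {i x₀}

theorem LiftData.nonempty_of_le [UniversallyClosed i] [UniversallyInjective i] [Surjective i] {V V' : X₀.Opens}
    (h : V' ≤ V) (L : LiftData i x₀ V) : Nonempty (LiftData i x₀ V') := by
  haveI : UniversallyClosed L.c := MorphismProperty.of_isPullback (P := @UniversallyClosed) L.isPullback.flip ‹_›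
  haveI : UniversallyInjective L.c := MorphismProperty.of_isPullback (P := @UniversallyInjective) L.isPullback.flip ‹_›
  haveI : Surjective L.c := MorphismProperty.of_isPullback (P := @Surjective) L.isPullback.flip ‹_›
  let O : L.W.Opens := ⟨L.c '' (V.ι ⁻¹ᵁ V'), isOpenMap_of_univHomeo L.c _ (V.ι ⁻¹ᵁ V').2⟩
  have hr : ∀ y : (V' : Scheme.{u}), L.c (X₀.homOfLE h y) ∈ O := fun y =>
    ⟨X₀.homOfLE h y, by
      change V.ι (X₀.homOfLE h y) ∈ V'
      rw [← Scheme.Hom.comp_apply, Scheme.homOfLE_ι]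
      exact y.2, rfl⟩
  let c' : (V' : Scheme.{u}) ⟶ O := IsOpenImmersion.lift O.ι (X₀.homOfLE h ≫ L.c) (by
    rw [Scheme.Opens.range_ι]; rintro _ ⟨y, rfl⟩; exact hr y)
  have hc' : c' ≫ O.ι = X₀.homOfLE h ≫ L.c := IsOpenImmersion.lift_fac _ _ _
  refine ⟨⟨O, O.ι ≫ L.p, inferInstance, c', ?_⟩⟩
  have hpre : IsPullback c' (X₀.homOfLE h) O.ι L.c := by
    refine IsOpenImmersion.isPullback c' (X₀.homOfLE h) O.ι L.c hc'.symm (TopologicalSpace.Opens.ext ?_)
    change L.c ⁻¹' (Set.range O.ι) = Set.range (X₀.homOfLE h)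
    rw [Scheme.Opens.range_ι]
    refine Set.ext fun y => ⟨fun hy => ?_, ?_⟩
    rotate_left
    · rintro ⟨z, rfl⟩; exact hr z
    · obtain ⟨y', hy', hyy⟩ := hy
      rw [← L.c.injective hyy]
      refine ⟨⟨V.ι y', hy'⟩, V.ι.isOpenEmbedding.injective ?_⟩
      rw [← Scheme.Hom.comp_apply, Scheme.homOfLE_ι]
      rfl
  have := hpre.paste_vert L.isPullback
  rwa [← Category.assoc, Scheme.homOfLE_ι] at this

section Glue

variable [UniversallyClosed i] [UniversallyInjective i] [Surjective i]

variable (i x₀) in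
/-- The opens admitting lifts. -/
abbrev Idx := {V : X₀.Opens // Nonempty (LiftData i x₀ V)}

/-- A chosen lift. -/
noncomputable def ld (V : Idx i x₀) : LiftData i x₀ V.1 := V.2.some

instance (V : Idx i x₀) : UniversallyClosed (ld V).c :=
  MorphismProperty.of_isPullback (P := @UniversallyClosed) (ld V).isPullback.flip ‹_›

instance (V : Idx i x₀) : UniversallyInjective (ld V).c :=
  MorphismProperty.of_isPullback (P := @UniversallyInjective) (ld V).isPullback.flip ‹_›

instance (V : Idx i x₀) : Surjective (ld V).c :=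
  MorphismProperty.of_isPullback (P := @Surjective) (ld V).isPullback.flip ‹_›

theorem exists_trans {V V' : Idx i x₀} (h : V ≤ V') :
    ∃ m : (ld V).W ⟶ (ld V').W, (ld V).c ≫ m = X₀.homOfLE h ≫ (ld V').c ∧ m ≫ (ld V').p = (ld V).p := by
  obtain ⟨m, hm, -⟩ := existsUnique_hom (ld V').p (ld V).p (ld V).c (X₀.homOfLE h ≫ (ld V').c) (by
    rw [Category.assoc, (ld V').isPullback.w, ← Category.assoc (X₀.homOfLE h), ← Category.assoc (X₀.homOfLE h),
      Scheme.homOfLE_ι, (ld V).isPullback.w])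
  exact ⟨m, hm⟩

/-- The transition maps. -/
noncomputable def trans {V V' : Idx i x₀} (h : V ≤ V') : (ld V).W ⟶ (ld V').W := (exists_trans h).choose

theorem c_trans {V V' : Idx i x₀} (h : V ≤ V') : (ld V).c ≫ trans h = X₀.homOfLE h ≫ (ld V').c :=
  (exists_trans h).choose_spec.1

theorem trans_p {V V' : Idx i x₀} (h : V ≤ V') : trans h ≫ (ld V').p = (ld V).p :=
  (exists_trans h).choose_spec.2

variable (i x₀) in
/-- The diagram of local lifts. -/
noncomputable def diag : Idx i x₀ ⥤ Scheme.{u} where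
  obj V := (ld V).W
  map f := trans (leOfHom f)
  map_id V := hom_eq (ld V).p (ld V).c (by rw [trans_p, Category.id_comp])
    (by rw [c_trans, Category.comp_id, Scheme.homOfLE_rfl, Category.id_comp])
  map_comp {U V W} f g := hom_eq (ld W).p (ld U).c (by rw [trans_p, Category.assoc, trans_p, trans_p])
    (by rw [c_trans, ← Category.assoc, c_trans, Category.assoc, c_trans, Scheme.homOfLE_homOfLE_assoc])

instance (V V' : Idx i x₀) (f : V ⟶ V') : IsOpenImmersion ((diag i x₀).map f) := by
  let m := trans (leOfHom f)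
  change IsOpenImmersion m
  haveI : Etale m := by
    haveI : Etale (m ≫ (ld V').p) := by rw [trans_p]; infer_instance
    exact Etale.of_comp m (ld V').p
  haveI : UniversallyInjective m :=
    ThickeningLib.universallyInjective_of_comp_surjective (ld V).c m (by
      rw [c_trans]; exact MorphismProperty.comp_mem @UniversallyInjective _ _ inferInstance inferInstance)
  haveI : Surjective (pullback.diagonal m) := (UniversallyInjective.iff_diagonal m).1 inferInstance
  haveI : IsIso (pullback.diagonal m) :=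
    (isIso_iff_isOpenImmersion_and_surjective _).2 ⟨inferInstance, inferInstance⟩
  haveI : Mono m := (pullback.isIso_diagonal_iff m).1 inferInstance
  exact IsOpenImmersion.of_flat_of_mono m

theorem trans_apply {V V' : Idx i x₀} (h : V ≤ V') (v : (V.1 : Scheme.{u})) :
    trans h ((ld V).c v) = (ld V').c (X₀.homOfLE h v) := by
  rw [← Scheme.Hom.comp_apply, c_trans, Scheme.Hom.comp_apply]

instance : (diag i x₀ ⋙ Scheme.forget).IsLocallyDirected where
  cond {A B C} fA fB a b hab := by
    obtain ⟨va, rfl⟩ := (ld A).c.surjective a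
    obtain ⟨vb, rfl⟩ := (ld B).c.surjective b
    change trans (leOfHom fA) ((ld A).c va) = trans (leOfHom fB) ((ld B).c vb) at hab
    rw [trans_apply, trans_apply] at hab
    have h : A.1.ι va = B.1.ι vb := by
      have := congrArg C.1.ι ((ld C).c.injective hab)
      rwa [← Scheme.Hom.comp_apply, ← Scheme.Hom.comp_apply, Scheme.homOfLE_ι, Scheme.homOfLE_ι] at this
    let L : Idx i x₀ := ⟨A.1 ⊓ B.1, (ld A).nonempty_of_le inf_le_left⟩
    have hAL : L ≤ A := inf_le_left (a := A.1) (b := B.1)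
    have hBL : L ≤ B := inf_le_right (a := A.1) (b := B.1)
    let v : (L.1 : Scheme.{u}) := ⟨A.1.ι va, va.2, by rw [h]; exact vb.2⟩
    refine ⟨L, homOfLE hAL, homOfLE hBL, (ld L).c v, ?_, ?_⟩
    · change trans hAL ((ld L).c v) = (ld A).c va
      rw [trans_apply]
      refine congrArg _ (A.1.ι.isOpenEmbedding.injective ?_)
      rw [← Scheme.Hom.comp_apply, Scheme.homOfLE_ι]
      rfl
    · change trans hBL ((ld L).c v) = (ld B).c vb
      rw [trans_apply]
      refine congrArg _ (B.1.ι.isOpenEmbedding.injective ?_)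
      rw [← Scheme.Hom.comp_apply, Scheme.homOfLE_ι, ← h]
      rfl

theorem exists_lift_of_local (hloc : ∀ x : X₀, ∃ V : X₀.Opens, x ∈ V ∧ Nonempty (LiftData i x₀ V)) :
    ∃ (X : Scheme.{u}) (p : X ⟶ S) (Φ : X₀ ⟶ X), Etale p ∧ IsPullback Φ x₀ p i := by
  let F := diag i x₀
  let X := colimit F
  let ι : ∀ V : Idx i x₀, (ld V).W ⟶ X := fun V => colimit.ι F V
  haveI hιo : ∀ V, IsOpenImmersion (ι V) := fun V => inferInstanceAs (IsOpenImmersion (colimit.ι F V))
  have hι : ∀ {V V' : Idx i x₀} (h : V ≤ V'), trans h ≫ ι V' = ι V := fun h => colimit.w F (homOfLE h)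
  let p : X ⟶ S := colimit.desc F ⟨S, { app := fun V => (ld V).p
                                        naturality := fun V V' f => by
                                          simp only [Functor.const_obj_map, Category.comp_id]
                                          exact trans_p (leOfHom f) }⟩
  have hp : ∀ V, ι V ≫ p = (ld V).p := fun V => colimit.ι_desc _ _
  haveI : Etale p := IsZariskiLocalAtSource.of_openCover (P := @Etale)
    (Scheme.IsLocallyDirected.openCover F) fun V => by
      change Etale (ι V ≫ p)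
      rw [hp]
      exact (ld V).etale
  let 𝒰 := X₀.openCoverOfIsOpenCover (fun V : Idx i x₀ => V.1) (eq_top_iff.mpr fun x _ => by
    obtain ⟨V, hxV, hV⟩ := hloc x
    exact TopologicalSpace.Opens.mem_iSup.mpr ⟨⟨V, hV⟩, hxV⟩)
  let g : ∀ V : Idx i x₀, (V.1 : Scheme.{u}) ⟶ X := fun V => (ld V).c ≫ ι V
  have hg : ∀ {V V' : Idx i x₀} (h : V ≤ V'), X₀.homOfLE h ≫ g V' = g V := fun {V V'} h => by
    simp only [g]
    rw [← Category.assoc, ← c_trans h, Category.assoc, hι]
  let Φ : X₀ ⟶ X := 𝒰.glueMorphisms g fun V V' => by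
    let L : Idx i x₀ := ⟨V.1 ⊓ V'.1, (ld V).nonempty_of_le inf_le_left⟩
    have hL : L ≤ V := inf_le_left (a := V.1) (b := V'.1)
    have hL' : L ≤ V' := inf_le_right (a := V.1) (b := V'.1)
    show pullback.fst V.1.ι V'.1.ι ≫ g V = pullback.snd V.1.ι V'.1.ι ≫ g V'
    let r : pullback V.1.ι V'.1.ι ⟶ L.1 := IsOpenImmersion.lift L.1.ι (pullback.fst V.1.ι V'.1.ι ≫ V.1.ι) (by
      rw [Scheme.Opens.range_ι]
      rintro _ ⟨y, rfl⟩
      refine ⟨(pullback.fst V.1.ι V'.1.ι y).2, ?_⟩
      rw [pullback.condition]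
      exact (pullback.snd V.1.ι V'.1.ι y).2)
    have hr : r ≫ L.1.ι = pullback.fst V.1.ι V'.1.ι ≫ V.1.ι := IsOpenImmersion.lift_fac _ _ _
    have h1 : r ≫ X₀.homOfLE hL = pullback.fst V.1.ι V'.1.ι := by
      rw [← cancel_mono V.1.ι, Category.assoc, Scheme.homOfLE_ι, hr]
    have h2 : r ≫ X₀.homOfLE hL' = pullback.snd V.1.ι V'.1.ι := by
      rw [← cancel_mono V'.1.ι, Category.assoc, Scheme.homOfLE_ι, hr, pullback.condition]
    rw [← h1, ← h2, Category.assoc, Category.assoc, hg, hg]
  have hΦ : ∀ V : Idx i x₀, V.1.ι ≫ Φ = g V := fun V => 𝒰.ι_glueMorphisms g _ V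
  have hw : Φ ≫ p = x₀ ≫ i := 𝒰.hom_ext _ _ fun V => by
    show V.1.ι ≫ Φ ≫ p = V.1.ι ≫ x₀ ≫ i
    rw [← Category.assoc, hΦ, Category.assoc, hp, (ld V).isPullback.w, Category.assoc]
  let u : X₀ ⟶ pullback p i := pullback.lift Φ x₀ hw
  have hu : ∀ V : Idx i x₀, IsPullback (ld V).c (V.1.ι ≫ u) (ι V) (pullback.fst p i) := fun V => by
    refine IsPullback.of_bot ?_ ?_ (IsPullback.of_hasPullback p i)
    · rw [hp, Category.assoc, pullback.lift_snd]
      exact (ld V).isPullback
    · rw [Category.assoc, pullback.lift_fst, hΦ]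
  have hui : Function.Injective u := fun a b hab => by
    have hΦab : Φ a = Φ b := by
      rw [← pullback.lift_fst Φ x₀ hw, Scheme.Hom.comp_apply, Scheme.Hom.comp_apply, hab]
    obtain ⟨A, ha, hA⟩ := hloc a
    obtain ⟨B, hb, hB⟩ := hloc b
    let A' : Idx i x₀ := ⟨A, hA⟩
    let B' : Idx i x₀ := ⟨B, hB⟩
    have ea : Φ a = ι A' ((ld A').c (⟨a, ha⟩ : (A'.1 : Scheme.{u}))) := by
      rw [← Scheme.Hom.comp_apply, show (ld A').c ≫ ι A' = A'.1.ι ≫ Φ from (hΦ A').symm]; rfl
    have eb : Φ b = ι B' ((ld B').c (⟨b, hb⟩ : (B'.1 : Scheme.{u}))) := by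
      rw [← Scheme.Hom.comp_apply, show (ld B').c ≫ ι B' = B'.1.ι ≫ Φ from (hΦ B').symm]; rfl
    obtain ⟨C, fA, fB, x, hxA, hxB⟩ := (Scheme.IsLocallyDirected.ι_eq_ι_iff F).1 (ea.symm.trans (hΦab.trans eb))
    obtain ⟨v, rfl⟩ := (ld C).c.surjective x
    change trans (leOfHom fA) ((ld C).c v) = _ at hxA
    change trans (leOfHom fB) ((ld C).c v) = _ at hxB
    rw [trans_apply] at hxA hxB
    have h1 : C.1.ι v = a := by
      have := congrArg A'.1.ι ((ld A').c.injective hxA)
      rwa [← Scheme.Hom.comp_apply, Scheme.homOfLE_ι] at this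
    have h2 : C.1.ι v = b := by
      have := congrArg B'.1.ι ((ld B').c.injective hxB)
      rwa [← Scheme.Hom.comp_apply, Scheme.homOfLE_ι] at this
    rw [← h1, h2]
  have hop : ∀ V : Idx i x₀, IsOpenImmersion (V.1.ι ≫ u) := fun V =>
    MorphismProperty.of_isPullback (P := @IsOpenImmersion) (hu V) inferInstance
  haveI : IsOpenImmersion u := IsOpenImmersion.of_openCover_source u 𝒰 hui hop
  haveI : Surjective u := ⟨fun q => by
    obtain ⟨V, w, hw'⟩ := Scheme.IsLocallyDirected.ι_jointly_surjective F (pullback.fst p i q)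
    obtain ⟨v, rfl⟩ := (ld V).c.surjective w
    refine ⟨V.1.ι v, ?_⟩
    haveI : UniversallyInjective (pullback.fst p i) := MorphismProperty.pullback_fst (P := @UniversallyInjective) p i ‹_›
    refine (pullback.fst p i).injective ?_
    rw [← hw', ← Scheme.Hom.comp_apply, ← Scheme.Hom.comp_apply, pullback.lift_fst, hΦ]
    rfl⟩
  haveI : IsIso u := (isIso_iff_isOpenImmersion_and_surjective u).2 ⟨inferInstance, inferInstance⟩
  exact ⟨X, p, Φ, inferInstance, IsPullback.of_iso_pullback ⟨hw⟩ (asIso u) (pullback.lift_fst _ _ _)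
    (pullback.lift_snd _ _ _)⟩

end Glue

end EtInvLib
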