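import Groth.Agent.EtInvLib.Glue
import Groth.Agent.TransLib.LiftSmooth
import Mathlib.AlgebraicGeometry.Morphisms.Etale
import Mathlib.Algebra.Category.Ring.Constructions
import Mathlib.RingTheory.Nakayama
import Mathlib.RingTheory.Kaehler.TensorProduct

/-!
# Étale schemes lift along thickenings
-/

set_option autoImplicit false
set_option linter.style.haveILetI false
universe u

open CategoryTheory CategoryTheory.Limits AlgebraicGeometry
open scoped TensorProduct

namespace EtInvLib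

set_option maxHeartbeats 400000

theorem exists_etale_lift (A A₀ B₀ : Type u) [CommRing A] [CommRing A₀] [CommRing B₀] [Algebra A A₀] [Algebra A₀ B₀]
    [Algebra A B₀] [IsScalarTower A A₀ B₀] [Algebra.Etale A₀ B₀] (hs : Function.Surjective (algebraMap A A₀))
    (hnil : RingHom.ker (algebraMap A A₀) ≤ nilradical A) :
    ∃ (B : Type u) (_ : CommRing B) (_ : Algebra A B) (_ : Algebra.Etale A B) (_ : Algebra B B₀)
      (_ : IsScalarTower A B B₀), Algebra.IsPushout A A₀ B B₀ := by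
  let I := RingHom.ker (algebraMap A A₀)
  let e₀ : (A ⧸ I) ≃+* A₀ := RingHom.quotientKerEquivOfSurjective hs
  letI algI : Algebra (A ⧸ I) B₀ := ((algebraMap A₀ B₀).comp e₀.toRingHom).toAlgebra
  letI algIA : Algebra (A ⧸ I) A₀ := e₀.toRingHom.toAlgebra
  haveI : IsScalarTower (A ⧸ I) A₀ B₀ := IsScalarTower.of_algebraMap_eq fun _ => rfl
  haveI : Algebra.Smooth (A ⧸ I) A₀ :=
    Algebra.Smooth.of_equiv (AlgEquiv.ofRingEquiv (f := e₀) fun _ => rfl)
  haveI : Algebra.Smooth (A ⧸ I) B₀ := Algebra.Smooth.comp (A ⧸ I) A₀ B₀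
  obtain ⟨B, _, _, hB, ⟨e⟩⟩ := TransLib.exists_smooth_lift (A₀ := B₀) I
  haveI := hB
  let K : Ideal B := I.map (algebraMap A B)
  letI algBB : Algebra B B₀ := (e.toAlgHom.toRingHom.comp (Ideal.Quotient.mk K)).toAlgebra
  haveI : IsScalarTower A B B₀ := IsScalarTower.of_algebraMap_eq fun a => by
    change algebraMap A B₀ a = e (Ideal.Quotient.mk K (algebraMap A B a))
    rw [IsScalarTower.algebraMap_apply A A₀ B₀]
    exact (e.commutes (Ideal.Quotient.mk I a)).symm
  have hsB : Function.Surjective (algebraMap B B₀) := e.surjective.comp Ideal.Quotient.mk_surjective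
  let χ : A₀ ⊗[A] B →ₐ[A₀] B₀ :=
    Algebra.TensorProduct.lift (Algebra.ofId A₀ B₀) (IsScalarTower.toAlgHom A B B₀) fun _ _ => Commute.all _ _
  have h1 : ∀ z : A₀ ⊗[A] B, ∃ b : B, (1 : A₀) ⊗ₜ b = z := fun z => by
    induction z using TensorProduct.induction_on with
    | zero => exact ⟨0, TensorProduct.tmul_zero _ _⟩
    | tmul a b =>
      obtain ⟨a, rfl⟩ := hs a
      exact ⟨a • b, by rw [TensorProduct.tmul_smul, TensorProduct.smul_tmul', ← Algebra.algebraMap_eq_smul_one]⟩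
    | add z w hz hw =>
      obtain ⟨b, rfl⟩ := hz
      obtain ⟨c, rfl⟩ := hw
      exact ⟨b + c, TensorProduct.tmul_add _ _ _⟩
  have hχb : ∀ b : B, χ ((1 : A₀) ⊗ₜ b) = algebraMap B B₀ b := fun b => by simp [χ]
  have hker : ∀ b ∈ K, (1 : A₀) ⊗ₜ[A] b = 0 := fun b hb => by
    let ir : B →+* A₀ ⊗[A] B := (Algebra.TensorProduct.includeRight : B →ₐ[A] A₀ ⊗[A] B).toRingHom
    have hle : K ≤ RingHom.ker ir := Ideal.map_le_iff_le_comap.mpr fun a ha => by
      change (1 : A₀) ⊗ₜ[A] algebraMap A B a = 0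
      rw [Algebra.algebraMap_eq_smul_one, TensorProduct.tmul_smul, TensorProduct.smul_tmul',
        ← Algebra.algebraMap_eq_smul_one, show algebraMap A A₀ a = 0 from ha, TensorProduct.zero_tmul]
    exact hle hb
  have hbij : Function.Bijective χ := by
    refine ⟨(injective_iff_map_eq_zero χ).mpr fun z hz => ?_, fun y => ?_⟩
    · obtain ⟨b, rfl⟩ := h1 z
      rw [hχb] at hz
      exact hker b (Ideal.Quotient.eq_zero_iff_mem.mp (e.injective (hz.trans (map_zero e).symm)))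
    · obtain ⟨b, rfl⟩ := hsB y
      exact ⟨_, hχb b⟩
  haveI hpush : Algebra.IsPushout A A₀ B B₀ :=
    ⟨IsBaseChange.of_equiv (AlgEquiv.ofBijective χ hbij).toLinearEquiv fun b => hχb b⟩
  haveI : Algebra.FormallyUnramified A B := by
    haveI : Subsingleton (Ω[B₀⁄A₀]) := inferInstance
    haveI : Subsingleton (B₀ ⊗[B] Ω[B⁄A]) := (KaehlerDifferential.tensorKaehlerEquiv A A₀ B B₀).injective.subsingleton
    have hK : K ≤ Ideal.jacobson ⊥ := Ideal.map_le_iff_le_comap.mpr fun a ha => by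
      obtain ⟨n, hn⟩ := hnil ha
      refine Ideal.mem_sInf.mpr fun J hJ => ?_
      refine hJ.2.isPrime.mem_of_pow_mem n ?_
      rw [← map_pow, hn, map_zero]
      exact J.zero_mem
    have hle : (⊤ : Submodule B (Ω[B⁄A])) ≤ K • ⊤ := fun x _ => by
      have hz : (1 : B₀) ⊗ₜ[B] x = 0 := Subsingleton.elim _ _
      let q : B₀ →ₗ[B] B ⧸ K :=
        { toFun := fun y => e.symm y
          map_add' := map_add _
          map_smul' := fun c y => by
            rw [Algebra.smul_def, map_mul, RingHom.id_apply, Algebra.smul_def]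
            exact congrArg (· * e.symm y) (e.symm_apply_apply _) }
      have h2 := congrArg (fun z => TensorProduct.quotTensorEquivQuotSMul (Ω[B⁄A]) K (LinearMap.rTensor _ q z)) hz
      simp only [LinearMap.rTensor_tmul, map_zero] at h2
      rw [show q 1 = Ideal.Quotient.mk K 1 from (map_one e.symm).trans (map_one _).symm,
        TensorProduct.quotTensorEquivQuotSMul_mk_tmul, one_smul, Submodule.Quotient.mk_eq_zero] at h2
      exact h2
    have hbot := Submodule.eq_bot_of_le_smul_of_le_jacobson_bot K (⊤ : Submodule B (Ω[B⁄A])) Module.Finite.fg_top hle hK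
    exact ⟨⟨fun a b => by
      rw [(Submodule.mem_bot B).mp (hbot ▸ Submodule.mem_top : a ∈ (⊥ : Submodule B (Ω[B⁄A]))),
        (Submodule.mem_bot B).mp (hbot ▸ Submodule.mem_top : b ∈ (⊥ : Submodule B (Ω[B⁄A])))]⟩⟩
  haveI : Algebra.Etale A B := ⟨Algebra.FormallyEtale.iff_formallyUnramified_and_formallySmooth.mpr ⟨‹_›, inferInstance⟩, inferInstance⟩
  exact ⟨B, inferInstance, inferInstance, inferInstance, algBB, inferInstance, hpush⟩

theorem exists_liftData {S S₀ X₀ : Scheme.{u}} (i : S₀ ⟶ S) [IsClosedImmersion i] [Surjective i] (x₀ : X₀ ⟶ S₀)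
    [Etale x₀] (x : X₀) : ∃ V : X₀.Opens, x ∈ V ∧ Nonempty (LiftData i x₀ V) := by
  obtain ⟨U, hU, hxU, -⟩ := exists_isAffineOpen_mem_and_subset (x := i (x₀ x)) (U := ⊤) trivial
  let U₀ := i ⁻¹ᵁ U
  have hU₀ : IsAffineOpen U₀ := hU.preimage i
  obtain ⟨V, hV, hxV, hVU⟩ := exists_isAffineOpen_mem_and_subset (x := x) (U := x₀ ⁻¹ᵁ U₀) hxU
  let φ := i.app U
  let ψ := x₀.appLE U₀ V hVU
  letI := φ.hom.toAlgebra
  letI := ψ.hom.toAlgebra
  letI := (ψ.hom.comp φ.hom).toAlgebra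
  haveI : IsScalarTower Γ(S, U) Γ(S₀, U₀) Γ(X₀, V) := IsScalarTower.of_algebraMap_eq fun _ => rfl
  haveI : Algebra.Etale Γ(S₀, U₀) Γ(X₀, V) := x₀.etale_appLE hU₀ hV hVU
  have hfs : Spec.map φ ≫ hU.fromSpec = hU₀.fromSpec ≫ i := by
    rw [show φ = i.appLE U U₀ le_rfl from (Scheme.Hom.appLE_eq_app i).symm]
    exact IsAffineOpen.SpecMap_appLE_fromSpec i hU hU₀ le_rfl
  have hpbU : IsPullback hU₀.fromSpec (Spec.map φ) i hU.fromSpec := by
    refine (IsOpenImmersion.isPullback (Spec.map φ) hU₀.fromSpec hU.fromSpec i hfs.symm ?_).flip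
    rw [IsAffineOpen.opensRange_fromSpec, IsAffineOpen.opensRange_fromSpec]
  have hnil : RingHom.ker φ.hom ≤ nilradical Γ(S, U) := by
    have hsur : Surjective (Spec.map φ) := MorphismProperty.of_isPullback (P := @Surjective) hpbU ‹_›
    intro a ha
    rw [nilradical_eq_sInf]
    refine Ideal.mem_sInf.mpr fun P hP => ?_
    haveI : P.IsPrime := hP
    obtain ⟨q, hq⟩ := hsur.1 ⟨P, hP⟩
    have hq' : q.asIdeal.comap φ.hom = P := congrArg PrimeSpectrum.asIdeal hq
    rw [← hq', Ideal.mem_comap, RingHom.mem_ker.mp ha]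
    exact zero_mem _
  obtain ⟨B, _, _, hB, _, _, hpush⟩ := exists_etale_lift Γ(S, U) Γ(S₀, U₀) Γ(X₀, V)
    (i.app_surjective U hU) hnil
  refine ⟨V, hxV, ⟨⟨Spec (CommRingCat.of B), Spec.map (CommRingCat.ofHom (algebraMap Γ(S, U) B)) ≫ hU.fromSpec, ?_,
    hV.isoSpec.hom ≫ Spec.map (CommRingCat.ofHom (algebraMap B Γ(X₀, V))), ?_⟩⟩⟩
  · haveI : Etale (Spec.map (CommRingCat.ofHom (algebraMap Γ(S, U) B))) :=
      HasRingHomProperty.Spec_iff.mpr (RingHom.etale_algebraMap.mpr hB)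
    infer_instance
  · have h1 := isPullback_SpecMap_of_isPushout (CommRingCat.ofHom (algebraMap Γ(S, U) B)) φ
      (CommRingCat.ofHom (algebraMap B Γ(X₀, V))) ψ
      (CommRingCat.isPushout_iff_isPushout.mpr (Algebra.IsPushout.symm hpush))
    have h2 := h1.paste_vert hpbU.flip
    have hψ : Spec.map ψ ≫ hU₀.fromSpec = hV.fromSpec ≫ x₀ := IsAffineOpen.SpecMap_appLE_fromSpec x₀ hU₀ hV hVU
    rw [hψ] at h2
    refine h2.of_iso hV.isoSpec.symm (Iso.refl _) (Iso.refl _) (Iso.refl _) ?_ ?_ ?_ ?_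
    · simp
    · simp only [Iso.symm_hom, Iso.refl_hom, Category.comp_id]
      rw [← IsAffineOpen.isoSpec_inv_ι, Category.assoc]
    · simp
    · simp

end EtInvLib
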