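import Groth.Agent.FFDescLib.EtaleGraph
import Groth.Agent.Thickening.Basic
import Mathlib.AlgebraicGeometry.Morphisms.UniversallyClosed
import Mathlib.AlgebraicGeometry.Morphisms.UniversallyInjective
import Mathlib.CategoryTheory.Comma.Over.Pullback

/-!
# Sections of étale morphisms along universal homeomorphisms
-/

set_option autoImplicit false
set_option linter.style.haveILetI false
universe u

open CategoryTheory CategoryTheory.Limits AlgebraicGeometry

namespace EtInvLib

set_option maxHeartbeats 400000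

variable {S Y Y₀ X : Scheme.{u}}

theorem section_eq (q : X ⟶ Y) [Etale q] (i : Y₀ ⟶ Y) [Surjective i] {s s' : Y ⟶ X} (hs : s ≫ q = 𝟙 Y)
    (hs' : s' ≫ q = 𝟙 Y) (h : i ≫ s = i ≫ s') : s = s' := by
  haveI := FFDescLib.isOpenImmersion_of_section q s hs
  haveI := FFDescLib.isOpenImmersion_of_section q s' hs'
  have hr : Set.range s'.base ⊆ Set.range s.base := by
    rintro _ ⟨y, rfl⟩
    obtain ⟨y₀, rfl⟩ := i.surjective y
    exact ⟨i y₀, by rw [← Scheme.Hom.comp_apply, h]; rfl⟩
  have he : IsOpenImmersion.lift s s' hr ≫ s = s' := IsOpenImmersion.lift_fac s s' hr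
  have h1 : IsOpenImmersion.lift s s' hr = 𝟙 Y := by
    have h2 := congrArg (· ≫ q) he
    simp only [Category.assoc, hs, hs', Category.comp_id] at h2
    exact h2
  rwa [h1, Category.id_comp] at he

theorem isOpenMap_of_univHomeo (i : Y₀ ⟶ Y) [UniversallyClosed i] [UniversallyInjective i] [Surjective i] :
    IsOpenMap i := fun U hU => by
  have hc : IsClosed (i '' Uᶜ) := Scheme.Hom.isClosedMap i _ hU.isClosed_compl
  rw [Set.image_compl_eq ⟨Scheme.Hom.injective i, i.surjective⟩] at hc
  exact isClosed_compl_iff.mp hc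

theorem exists_section (q : X ⟶ Y) [Etale q] (i : Y₀ ⟶ Y) [UniversallyClosed i] [UniversallyInjective i]
    [Surjective i] (s₀ : Y₀ ⟶ X) (h₀ : s₀ ≫ q = i) : ∃ s : Y ⟶ X, s ≫ q = 𝟙 Y ∧ i ≫ s = s₀ := by
  let e := pullback.fst q i
  let σ₀ : Y₀ ⟶ pullback q i := pullback.lift s₀ (𝟙 _) (by rw [Category.id_comp]; exact h₀)
  haveI : IsOpenImmersion σ₀ :=
    FFDescLib.isOpenImmersion_of_section (pullback.snd q i) σ₀ (pullback.lift_snd _ _ _)
  haveI : UniversallyClosed e := inferInstance
  haveI : UniversallyInjective e := MorphismProperty.pullback_fst (P := @UniversallyInjective) q i ‹_›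
  haveI : Surjective e := inferInstance
  have hopen : IsOpen (Set.range s₀) := by
    have : (s₀ : Y₀ → X) = e ∘ σ₀ := funext fun y => by
      rw [Function.comp_apply, ← Scheme.Hom.comp_apply, pullback.lift_fst]
    rw [this, Set.range_comp]
    exact isOpenMap_of_univHomeo e _ σ₀.isOpenEmbedding.isOpen_range
  let U : X.Opens := ⟨Set.range s₀, hopen⟩
  let t : Y₀ ⟶ U := IsOpenImmersion.lift U.ι s₀ (by rw [Scheme.Opens.range_ι]; exact subset_rfl)
  have ht : t ≫ U.ι = s₀ := IsOpenImmersion.lift_fac _ _ _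
  haveI : Surjective t := ⟨fun x => by
    obtain ⟨y, hy⟩ := x.2
    refine ⟨y, U.ι.isOpenEmbedding.injective ?_⟩
    rw [← Scheme.Hom.comp_apply, ht]
    exact hy⟩
  let h : (U : Scheme.{u}) ⟶ Y := U.ι ≫ q
  have hth : t ≫ h = i := by rw [← Category.assoc, ht, h₀]
  haveI : UniversallyInjective h :=
    ThickeningLib.universallyInjective_of_comp_surjective t h (by rw [hth]; infer_instance)
  haveI : Surjective h := by
    haveI : Surjective (t ≫ h) := by rw [hth]; infer_instance
    exact Surjective.of_comp t h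
  haveI : IsIso h := FFDescLib.isIso_of_etale_univInjective_surjective h
  refine ⟨inv h ≫ U.ι, by simp [h, Category.assoc], ?_⟩
  rw [← hth, Category.assoc, IsIso.hom_inv_id_assoc, ht]

theorem hom_eq {X : Scheme.{u}} (f : X ⟶ S) [Etale f] (i : Y₀ ⟶ Y) [Surjective i] {a b : Y ⟶ X}
    (hab : a ≫ f = b ≫ f) (h : i ≫ a = i ≫ b) : a = b := by
  let q := pullback.snd f (a ≫ f)
  have he : pullback.lift a (𝟙 Y) (Category.id_comp (a ≫ f)).symm = pullback.lift b (𝟙 Y) (hab.symm.trans (Category.id_comp (a ≫ f)).symm) :=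
    section_eq q i (pullback.lift_snd _ _ _) (pullback.lift_snd _ _ _) (pullback.hom_ext
      (by rw [Category.assoc, Category.assoc, pullback.lift_fst, pullback.lift_fst, h])
      (by rw [Category.assoc, Category.assoc, pullback.lift_snd, pullback.lift_snd]))
  have := congrArg (· ≫ pullback.fst f (a ≫ f)) he
  exact (pullback.lift_fst _ _ _).symm.trans (this.trans (pullback.lift_fst _ _ _))

/-- Maps into an étale scheme extend uniquely along universal homeomorphisms. -/
theorem existsUnique_hom {X : Scheme.{u}} (f : X ⟶ S) [Etale f] (g : Y ⟶ S) (i : Y₀ ⟶ Y) [UniversallyClosed i]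
    [UniversallyInjective i] [Surjective i] (a : Y₀ ⟶ X) (ha : a ≫ f = i ≫ g) :
    ∃! b : Y ⟶ X, i ≫ b = a ∧ b ≫ f = g := by
  obtain ⟨s, hs, his⟩ := exists_section (pullback.snd f g) i (pullback.lift a i ha) (pullback.lift_snd _ _ _)
  refine ⟨s ≫ pullback.fst f g, ⟨?_, ?_⟩, fun b hb => ?_⟩
  · rw [← Category.assoc, his, pullback.lift_fst]
  · rw [Category.assoc, pullback.condition, ← Category.assoc, hs, Category.id_comp]
  · refine hom_eq f i ?_ ?_
    · rw [hb.2, Category.assoc, pullback.condition, ← Category.assoc, hs, Category.id_comp]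
    · rw [hb.1, ← Category.assoc, his, pullback.lift_fst]

theorem bijective_pullback_map {S₀ : Scheme.{u}} (i : S₀ ⟶ S) [UniversallyClosed i] [UniversallyInjective i]
    [Surjective i] (X Y : Over S) [Etale X.hom] :
    Function.Bijective (fun φ : Y ⟶ X => (Over.pullback i).map φ) := by
  let iY := pullback.fst Y.hom i
  haveI : UniversallyClosed iY := inferInstance
  haveI : UniversallyInjective iY := MorphismProperty.pullback_fst (P := @UniversallyInjective) Y.hom i ‹_›
  haveI : Surjective iY := inferInstance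
  have hfst : ∀ φ : Y ⟶ X, ((Over.pullback i).map φ).left ≫ pullback.fst X.hom i = iY ≫ φ.left := fun φ =>
    pullback.lift_fst _ _ _
  refine ⟨fun φ ψ h => ?_, fun ψ => ?_⟩
  · refine Over.OverMorphism.ext (hom_eq X.hom iY (by rw [Over.w, Over.w]) ?_)
    rw [← hfst, ← hfst]
    exact congrArg (fun z => CommaMorphism.left z ≫ pullback.fst X.hom i) h
  · have hw : ψ.left ≫ pullback.snd X.hom i = pullback.snd Y.hom i := Over.w ψ
    obtain ⟨b, ⟨hb, hbf⟩, -⟩ := existsUnique_hom X.hom Y.hom iY (ψ.left ≫ pullback.fst X.hom i) (by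
      rw [Category.assoc, pullback.condition, reassoc_of% hw, ← pullback.condition])
    refine ⟨Over.homMk b hbf, Over.OverMorphism.ext (pullback.hom_ext ?_ ?_)⟩
    · exact (hfst _).trans hb
    · exact (pullback.lift_snd _ _ _).trans hw.symm

end EtInvLib
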